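import Cfsg.Agent.Lib.SG.Ba
import Cfsg.Agent.Lib.PGroup.Basic

/-! # A Sylow subgroup that is a product of two copies of a group with centre of order two -/

set_option autoImplicit false

namespace Cfsg.Lib.SH

open Subgroup Cfsg.Lib.Transfer Cfsg.Lib.SG

variable {G : Type*} [Group G] {T : Type*} [Group T]

/-- `c` is a commutator in its centraliser, which is generated by involutions -/
structure Rp (c : T) : Prop where
  sq : c * c = 1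
  ne : c ≠ 1
  der : c ∈ ⁅centralizer {c}, centralizer {c}⁆
  gen : ∀ H : Subgroup T, (∀ a, a * c = c * a → a * a = 1 → a ∈ H) → centralizer {c} ≤ H

/-- the `2`-group -/
structure Ty (z u : T) : Prop where
  pg : IsPGroup 2 T
  zc : ∀ a, a * z = z * a
  cz : ∀ a : T, (∀ b, b * a = a * b) → a = 1 ∨ a = z
  rz : Rp z
  ru : Rp u

/-- fusion in the first factor -/
def Side (z u : T) (Ψ : T × T →* G) : Prop := ∃ H : Subgroup G, (∀ a, Ψ (a, 1) ∈ ⁅H, H⁆) ∧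
  (∀ h ∈ H, ∀ b, h * Ψ (1, b) = Ψ (1, b) * h) ∧ ∀ a, a * a = 1 → a ≠ 1 → ∃ h ∈ H, h * Ψ (a, 1) * h⁻¹ = Ψ (z, 1) ∨
    h * Ψ (a, 1) * h⁻¹ = Ψ (u, 1) ∧ Nat.card (centralizer {a}) ≤ Nat.card (centralizer {u})

/-- a Sylow subgroup `T × T` -/
structure Pr (G : Type*) [Group G] (z u : T) where
  Ψ : T × T →* G
  inj : Function.Injective Ψ
  odd : ¬2 ∣ Ψ.range.index
  l : Side z u Ψ
  r : Side z u (Ψ.comp (MulEquiv.prodComm (M := T) (N := T)).toMonoidHom)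
  sw : ∀ a b c d, IsConj (Ψ (a, b)) (Ψ (c, d)) → IsConj (Ψ (b, a)) (Ψ (d, c))

theorem Ty.proj [Finite T] {z u : T} (H : Ty z u) (f : T →* T) : Function.Surjective f ∨ f z = 1 :=
  or_iff_not_imp_left.2 fun n => by
    obtain ⟨x, p, q, r⟩ := PGroup.exists_mem_center_orderOf_eq H.pg f.ker fun e =>
      n (Finite.surjective_of_injective ((MonoidHom.ker_eq_bot_iff f).1 e))
    rcases H.cz x (mem_center_iff.1 q) with e | e
    · simp [e] at r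
    · exact e ▸ p

theorem Ty.projz {z u : T} (H : Ty z u) {f : T →* T} (h : Function.Surjective f) : f z = 1 ∨ f z = z :=
  H.cz _ (h.forall.2 fun b => by rw [← map_mul, H.zc, map_mul])

theorem Ty.zd {z u : T} (H : Ty z u) {f : T →* T} (h : ∀ a b, b * f a = f a * b) : f z = 1 :=
  (commutator_le.2 fun a _ b _ => by
    rw [MonoidHom.mem_ker, map_commutatorElement, commutatorElement_eq_one_iff_mul_comm, h] : _ ≤ f.ker) H.rz.der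

namespace Pr

variable {z u : T} (P : Pr G z u) {a b c d : T} {g : G}

/-- the factors interchanged -/
def swap : Pr G z u where
  Ψ := P.Ψ.comp (MulEquiv.prodComm (M := T) (N := T)).toMonoidHom
  inj := P.inj.comp Prod.swap_injective
  odd := by rw [MonoidHom.range_comp, MonoidHom.range_eq_top.2 (MulEquiv.surjective _), ← MonoidHom.range_eq_map]; exact P.odd
  l := P.r
  r := P.l
  sw a b c d := P.sw b a d c

theorem mul (a b c d : T) : P.Ψ (a, b) * P.Ψ (c, d) = P.Ψ (a * c, b * d) := (map_mul ..).symm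
theorem inv (a b : T) : (P.Ψ (a, b))⁻¹ = P.Ψ (a⁻¹, b⁻¹) := (map_inv ..).symm
theorem eq : P.Ψ (a, b) = P.Ψ (c, d) ↔ a = c ∧ b = d := P.inj.eq_iff.trans Prod.ext_iff
theorem eq_one : P.Ψ (a, b) = 1 ↔ a = 1 ∧ b = 1 := by rw [← map_one P.Ψ]; exact P.eq
theorem split (a b : T) : P.Ψ (a, b) = P.Ψ (a, 1) * P.Ψ (1, b) := by rw [P.mul, mul_one, one_mul]
theorem cm : P.Ψ (a, b) * P.Ψ (c, d) = P.Ψ (c, d) * P.Ψ (a, b) ↔ a * c = c * a ∧ b * d = d * b := by rw [P.mul, P.mul, P.eq]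
theorem rs : P.swap.Ψ.range = P.Ψ.range := Subgroup.ext fun _ => ⟨fun ⟨x, e⟩ => ⟨x.swap, e⟩, fun ⟨x, e⟩ => ⟨x.swap, e⟩⟩

theorem pull (φ : T →* G) (h : ∀ a, φ a ∈ P.Ψ.range) : ∃ f k : T →* T, ∀ a, φ a = P.Ψ (f a, k a) :=
  let e := (MonoidHom.ofInjective P.inj).symm.toMonoidHom.comp (φ.codRestrict _ h)
  ⟨(MonoidHom.fst T T).comp e, (MonoidHom.snd T T).comp e, fun a =>
    (congrArg Subtype.val ((MonoidHom.ofInjective P.inj).apply_symm_apply (φ.codRestrict _ h a))).symm⟩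

theorem pull2 (h : ∀ a, g * P.Ψ (1, a) * g⁻¹ ∈ P.Ψ.range) : ∃ f k : T →* T, ∀ a, g * P.Ψ (1, a) * g⁻¹ = P.Ψ (f a, k a) :=
  P.pull ((MulAut.conj g).toMonoidHom.comp (P.Ψ.comp (.inr T T))) h

variable [Finite G] (H : Ty z u)
include H

/-- the Sylow subgroup -/
noncomputable def S : Sylow 2 G := IsPGroup.toSylow (P := P.Ψ.range) (fun y => by
  obtain ⟨x, e⟩ := y.2
  obtain ⟨i, p⟩ := H.pg x.1
  obtain ⟨j, q⟩ := H.pg x.2
  refine ⟨i + j, Subtype.ext ?_⟩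
  rw [coe_pow, ← e, ← map_pow, show x ^ 2 ^ (i + j) = 1 from Prod.ext (by simp [pow_add, pow_mul, p])
    (by simp [add_comm i, pow_add, pow_mul, q]), map_one, coe_one]) P.odd

omit H in
include P in
theorem fin : Finite T := have : Finite (T × T) := .of_injective _ P.inj; .prod_left T

theorem n1 (h : g ∈ normalizer (P.Ψ.range : Set G)) : g * P.Ψ (1, z) * g⁻¹ = P.Ψ (1, z) ∨ g * P.Ψ (1, z) * g⁻¹ = P.Ψ (z, 1) := by
  have := P.fin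
  obtain ⟨f, k, e⟩ := P.pull2 fun a => nrm_of h ⟨_, rfl⟩
  obtain ⟨k', f', e'⟩ := P.swap.pull2 (g := g) fun a => P.rs ▸ nrm_of h ⟨_, rfl⟩
  replace e' : ∀ a, g * P.Ψ (a, 1) * g⁻¹ = P.Ψ (f' a, k' a) := e'
  have c : ∀ a b, f a * f' b = f' b * f a ∧ k a * k' b = k' b * k a := fun a b => P.cm.1 (by
    rw [← e, ← e']; exact cjc (P.cm.2 ⟨by simp, by simp⟩) g)
  have n := cj1 (a := P.Ψ (1, z)) (fun p => H.rz.ne (P.eq_one.1 p).2) g
  have n' := cj1 (a := P.Ψ (z, 1)) (fun p => H.rz.ne (P.eq_one.1 p).1) g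
  rw [e' z, Ne, P.eq_one] at n'
  rw [e z, Ne, P.eq_one] at n
  rw [e z]
  rcases H.proj f with p | p <;> rcases H.proj k with q | q
  · exact (n' ⟨H.zd fun b => p.forall.2 fun a => (c a b).1, H.zd fun b => q.forall.2 fun a => (c a b).2⟩).elim
  · exact .inr (by rw [q, (H.projz p).resolve_left fun r => n ⟨r, q⟩])
  · exact .inl (by rw [p, (H.projz q).resolve_left fun r => n ⟨p, r⟩])
  · exact (n ⟨p, q⟩).elim

theorem nZ (h : g ∈ normalizer (P.Ψ.range : Set G)) : g * P.Ψ (1, z) * g⁻¹ = P.Ψ (1, z) := by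
  refine cjf.2 (mc1.1 ((two_or (H := centralizer {P.Ψ (1, z)}) fun x hx y hy => ?_).resolve_right (fun e => ?_) h))
  · simp only [mc1, ← cjf]
    rcases P.n1 H hx with p | p
    · exact .inl p
    rcases P.n1 H hy with q | q
    · exact .inr (.inl q)
    rcases P.swap.n1 H (P.rs ▸ hx) with s | s
    · exact absurd (P.eq.1 (conj_injective (p.trans s.symm))).1.symm H.rz.ne
    · exact .inr (.inr (.trans (by rw [← q]; group) (show x * P.Ψ (z, 1) * x⁻¹ = P.Ψ (1, z) from s)))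
  · refine sylow_not_dvd_relIndex (P.S H) le_normalizer (e.symm.dvd.trans (relIndex_dvd_of_le_left _ ?_))
    rintro _ ⟨⟨a, b⟩, rfl⟩
    exact mc1.2 (P.cm.2 ⟨by simp, H.zc b⟩)

theorem cz (e : g * P.Ψ (1, z) * g⁻¹ = P.Ψ (a, b)) (p : a = 1 ∨ a = z) (q : b = 1 ∨ b = z) : a = 1 ∧ b = z := by
  have k : ∀ {a : T}, a = 1 ∨ a = z → ∀ c, c * a = a * c := fun p c => p.elim (by simp [·]) (· ▸ H.zc c)
  obtain ⟨n, hn, f⟩ := exists_normalizer_conj_eq_of_isWeaklyClosed' (P := P.S H) (isWeaklyClosed_sylow_self _) (d := P.Ψ (1, z)) (g := g)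
    (by rintro _ ⟨⟨c, d⟩, rfl⟩; exact P.cm.2 ⟨by simp, H.zc d⟩) (by rintro _ ⟨⟨c, d⟩, rfl⟩; exact e ▸ P.cm.2 ⟨k p c, k q d⟩)
  exact (P.eq.1 (e.symm.trans (f.symm.trans (P.nZ H hn))))

theorem k2 (h : ∀ a, g * P.Ψ (1, a) * g⁻¹ ∈ P.Ψ.range) : g * P.Ψ (1, z) * g⁻¹ = P.Ψ (1, z) ∧
    ∀ a b, (∀ c, g * P.Ψ (1, c) * g⁻¹ * P.Ψ (a, b) = P.Ψ (a, b) * (g * P.Ψ (1, c) * g⁻¹)) → ∀ c, c * b = b * c := by
  have := P.fin
  obtain ⟨f, k, e⟩ := P.pull2 h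
  have p := P.cz H (e z) ((H.proj f).elim H.projz .inl) ((H.proj k).elim H.projz .inl)
  exact ⟨by rw [e, p.1, p.2], fun a b q => ((H.proj k).resolve_right fun r => H.rz.ne (p.2.symm.trans r)).forall.2
    fun c => (P.cm.1 (e c ▸ q c)).2⟩

theorem k3 (h : ∀ a, g * P.Ψ (1, a) * g⁻¹ ∈ P.Ψ.range) (p : ∀ a, a * b = b * a → g * P.Ψ (a, 1) * g⁻¹ ∈ P.Ψ.range)
    (q : b ∈ ⁅centralizer {b}, centralizer {b}⁆) : ∃ a, g * P.Ψ (b, 1) * g⁻¹ = P.Ψ (a, 1) := by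
  refine (commutator_le.2 fun x r y s => ?_ : _ ≤ (P.Ψ.comp (.inl T T)).range.comap
    ((MulAut.conj g).toMonoidHom.comp (P.Ψ.comp (.inl T T)))) q |>.imp fun _ e => e.symm
  obtain ⟨⟨x1, x2⟩, e⟩ := p x (mc1.1 r)
  obtain ⟨⟨y1, y2⟩, f⟩ := p y (mc1.1 s)
  refine ⟨x1 * y1 * x1⁻¹ * y1⁻¹, ?_⟩
  have := (P.k2 H h).2 y1 y2 (fun c => f ▸ cjc (P.cm.2 ⟨by simp, by simp⟩) g) x2
  simp only [commutatorElement_def, map_mul, map_inv]
  change _ = g * P.Ψ (x, 1) * g⁻¹ * (g * P.Ψ (y, 1) * g⁻¹) * (g * P.Ψ (x, 1) * g⁻¹)⁻¹ * (g * P.Ψ (y, 1) * g⁻¹)⁻¹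
  rw [← e, ← f, P.inv, P.inv, P.mul, P.mul, P.mul, this]
  simp [← map_mul, ← map_inv]

theorem ext {x y : G} (h : IsConj x y) : ∃ g k, g * x * g⁻¹ = k * y * k⁻¹ ∧ (∀ s ∈ P.Ψ.range, s * x = x * s → g * s * g⁻¹ ∈ P.Ψ.range) ∧
    ∀ s ∈ P.Ψ.range, s * y = y * s → k * s * k⁻¹ ∈ P.Ψ.range := by
  obtain ⟨c, rfl⟩ := isConj_iff.1 h
  obtain ⟨Q, a1, -, a2, a3⟩ := exists_sylowIn_ge ((P.S H).2.to_inf_left (K := centralizer {c * x * c⁻¹})) inf_le_right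
  obtain ⟨d, b1, b2⟩ := exists_conj_le_of_not_dvd_relIndex a2 a3 (((P.S H).2.to_inf_left (K := centralizer {x})).map (MulAut.conj c).toMonoidHom)
    (by rintro _ ⟨s, p, rfl⟩; exact mc1.2 (cjc (mc1.1 p.2) c))
  obtain ⟨k, l⟩ := exists_conj_le_of_not_dvd_index P.odd a2
  refine ⟨k * d * c, k, ?_, fun s p q => ?_, fun s p q => l (conj_mem_conj.2 (a1 ⟨p, mc1.2 q⟩))⟩
  · rw [← cjf.2 (mc1.1 b1)]; group
  · have := l (conj_mem_conj.2 (b2 (conj_mem_conj.2 (conj_mem_conj.2 (show s ∈ _ ⊓ _ from ⟨p, mc1.2 q⟩)))))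
    simpa only [mul_assoc, mul_inv_rev] using this

theorem inv0 (ha : Rp a) (hb : b = 1 ∨ b = z ∨ b = u) (hc : c = z ∨ c = u ∧ b ≠ u) : ¬IsConj (P.Ψ (a, 1)) (P.Ψ (b, c)) := fun h => by
  obtain ⟨g, k, e, p, q⟩ := P.ext H h
  obtain ⟨x, f⟩ := P.k3 H (fun a => p _ ⟨_, rfl⟩ (P.cm.2 ⟨by simp, by simp⟩)) (fun a r => p _ ⟨_, rfl⟩ (P.cm.2 ⟨r, rfl⟩)) ha.der
  rw [f, P.split b c, ← conj_mul] at e
  rcases hc with rfl | ⟨rfl, n⟩
  · have r := fun a => q _ ⟨(1, a), rfl⟩ (P.cm.2 ⟨by simp, H.zc a⟩)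
    obtain ⟨y, s⟩ := P.k3 H r (fun a r => q _ ⟨_, rfl⟩ (P.cm.2 ⟨r, by simp⟩))
      (hb.elim (· ▸ one_mem _) (·.elim (· ▸ H.rz.der) (· ▸ H.ru.der)))
    rw [s, (P.k2 H r).1, P.mul, P.eq, one_mul] at e
    exact H.rz.ne e.2.symm
  · replace hb := hb.imp_right (·.resolve_right n)
    have r := fun a => q _ ⟨(a, 1), rfl⟩ (P.cm.2 ⟨hb.elim (by simp [·]) (· ▸ H.zc a), by simp⟩)
    obtain ⟨y, s⟩ := P.swap.k3 H (g := k) (P.rs ▸ r) (fun a r => P.rs ▸ q _ ⟨(1, a), rfl⟩ (P.cm.2 ⟨by simp, r⟩)) H.ru.der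
    replace s : k * P.Ψ (1, c) * k⁻¹ = P.Ψ (1, y) := s
    have t : k * P.Ψ (b, 1) * k⁻¹ = P.Ψ (b, 1) := hb.elim (fun e => by simp [e, P.eq_one.2 ⟨rfl, rfl⟩]) fun e => by
      rw [e]; exact (P.swap.k2 H (P.rs ▸ r)).1
    rw [s, t, P.mul, P.eq, one_mul] at e
    rw [← e.2, P.eq_one.2 ⟨rfl, rfl⟩, conj_eq_one_iff, P.eq_one] at s
    exact H.ru.ne s.2

omit [Finite G] H in
theorem side (c2 : c * c = 1) (c1 : c ≠ 1) (b : T) : IsConj (P.Ψ (b, c)) (P.Ψ (b, z)) ∨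
    IsConj (P.Ψ (b, c)) (P.Ψ (b, u)) ∧ Nat.card (centralizer {c}) ≤ Nat.card (centralizer {u}) := by
  obtain ⟨L, -, r1, r2⟩ := P.r
  obtain ⟨k, p, q⟩ := r2 c c2 c1
  have e : ∀ {d}, k * P.Ψ (1, c) * k⁻¹ = P.Ψ (1, d) → IsConj (P.Ψ (b, c)) (P.Ψ (b, d)) := fun e => isConj_iff.2 ⟨k, by
    rw [P.split b c, ← conj_mul, e, show k * P.Ψ (b, 1) * k⁻¹ = P.Ψ (b, 1) from cjf.2 (r1 k p b), ← P.split]⟩
  exact q.imp e (.imp_left e)

theorem invol (ha : a * a = 1) (h : IsConj (P.Ψ (a, 1)) (P.Ψ (b, c))) : c = 1 := by_contra fun c1 => by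
  have k : b * b = 1 ∧ c * c = 1 := by
    obtain ⟨g, e⟩ := isConj_iff.1 h
    exact P.eq_one.1 (by rw [← P.mul, ← e, conj_mul, P.mul, ha, one_mul, P.eq_one.2 ⟨rfl, rfl⟩]; simp)
  have a1 : a ≠ 1 := fun e => c1 (P.eq_one.1 (by
    rw [e, P.eq_one.2 ⟨rfl, rfl⟩] at h; exact (isConj_one_right.1 h))).2
  obtain ⟨a, ha, h⟩ : ∃ a, (a = z ∨ a = u) ∧ IsConj (P.Ψ (a, 1)) (P.Ψ (b, c)) :=
    (P.swap.side ha a1 1).elim (fun p => ⟨_, .inl rfl, p.symm.trans h⟩) fun p => ⟨_, .inr rfl, p.1.symm.trans h⟩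
  obtain ⟨c, hc, h⟩ : ∃ c, (c = z ∨ c = u) ∧ IsConj (P.Ψ (a, 1)) (P.Ψ (b, c)) :=
    (P.side k.2 c1 b).elim (fun p => ⟨_, .inl rfl, h.trans p⟩) fun p => ⟨_, .inr rfl, h.trans p.1⟩
  obtain ⟨b, hb, h⟩ : ∃ b, (b = 1 ∨ b = z ∨ b = u) ∧ IsConj (P.Ψ (a, 1)) (P.Ψ (b, c)) := (em (b = 1)).elim (fun e => ⟨_, .inl e, h⟩) fun e =>
    (P.swap.side k.1 e c).elim (fun p => ⟨_, .inr (.inl rfl), h.trans p⟩) fun p => ⟨_, .inr (.inr rfl), h.trans p.1⟩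
  have r : Rp a := ha.elim (· ▸ H.rz) (· ▸ H.ru)
  by_cases e : b = u
  · rcases hc with f | f
    · exact P.inv0 H r hb (.inl f) h
    · rw [e, f] at h
      exact P.inv0 H r (.inl rfl) (ha.imp_right fun p => ⟨p, H.ru.ne.symm⟩) (h.trans (P.sw _ _ _ _ h).symm)
  · exact P.inv0 H r hb (hc.imp_right fun p => ⟨p, e⟩) h

theorem in2 (r : Rp c) (h : ∀ a, a * c = c * a → g * P.Ψ (1, a) * g⁻¹ ∈ P.Ψ.range) (p : a * c = c * a) :
    ∃ b, g * P.Ψ (1, a) * g⁻¹ = P.Ψ (1, b) := by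
  refine r.gen ((P.Ψ.comp (.inr T T)).range.comap ((MulAut.conj g).toMonoidHom.comp (P.Ψ.comp (.inr T T)))) (fun a p q => ?_) (mc1.2 p)
    |>.imp fun _ e => e.symm
  obtain ⟨⟨x, y⟩, e⟩ := h a p
  obtain rfl := P.swap.invol H (b := y) (c := x) q (isConj_iff.2 ⟨g, e.symm⟩)
  exact ⟨y, e⟩

/-- the centraliser of `c` in the second factor -/
def U (c : T) : Subgroup G := (centralizer {c}).map (P.Ψ.comp (.inr T T))
omit [Finite G] H in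
theorem mem_cU {x : G} : x ∈ centralizer (P.U c : Set G) ↔ ∀ a, a * c = c * a → P.Ψ (1, a) * x = x * P.Ψ (1, a) :=
  ⟨fun h a p => h _ ⟨a, mc1.2 p, rfl⟩, by rintro h _ ⟨a, p, rfl⟩; exact h a (mc1.1 p)⟩

theorem tr (r : Rp c) (h : P.Ψ (1, c) ∈ ⁅centralizer (P.U c : Set G), centralizer (P.U c : Set G)⁆) (b : T) :
    ∃ a d, IsConj (P.Ψ (b, c)) (P.Ψ (a, d)) ∧ d ≠ 1 ∧ Nat.card (centralizer {c}) < Nat.card (centralizer {d}) := by
  have := P.fin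
  have m1 : P.Ψ (1, c) ∈ centralizer (P.U c : Set G) := P.mem_cU.2 fun a p => P.cm.2 ⟨rfl, p⟩
  obtain ⟨Q, a1, a0, a2, a3⟩ := exists_sylowIn_ge ((P.S H).2.to_inf_left (K := centralizer (P.U c : Set G))) inf_le_right
  have h4 := mem_commutator_of_mem_center (H := Q.subgroupOf (centralizer (P.U c : Set G))) (x := ⟨_, m1⟩) (a1 ⟨⟨_, rfl⟩, m1⟩)
    (by rw [← map_subtype_commutator] at h; obtain ⟨x, p, q⟩ := h; exact (Subtype.ext q : x = ⟨_, _⟩) ▸ p)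
    (mem_center_iff.2 fun y => Subtype.ext (y.2 _ ⟨c, mc1.2 rfl, rfl⟩).symm)
    (Nat.Coprime.coprime_dvd_left (orderOf_dvd_of_pow_eq_one (n := 2) (Subtype.ext (by
      rw [coe_pow, sq, P.mul, r.sq, one_mul]; exact map_one _))) ((Nat.Prime.coprime_iff_not_dvd Nat.prime_two).2 a3))
  obtain ⟨m, l⟩ := exists_conj_le_of_not_dvd_index P.odd (a2.to_sup_of_normal_right' ((H.pg.to_subgroup _).map _ : IsPGroup 2 (P.U c))
    (a0.trans (centralizer_le_normalizer _)))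
  have l1 := fun x (p : x ∈ Q) => l (conj_mem_conj.2 (mem_sup_left p))
  obtain ⟨a, e⟩ := P.swap.in2 H (g := m) H.rz (fun a _ => P.rs ▸ l1 _ (a1 ⟨⟨(a, 1), rfl⟩, P.mem_cU.2 fun _ _ => P.cm.2 ⟨by simp, by simp⟩⟩))
    (H.zc b)
  replace e : m * P.Ψ (b, 1) * m⁻¹ = P.Ψ (a, 1) := e
  choose φ f using fun x : centralizer {c} => P.in2 H (g := m) r (fun a p => l (conj_mem_conj.2 (mem_sup_right ⟨a, mc1.2 p, rfl⟩))) (mc1.1 x.2)
  have f1 := f ⟨c, mc1.2 rfl⟩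
  generalize φ ⟨c, _⟩ = d at f1
  have d1 : d ≠ 1 := fun q => by
    rw [q, P.eq_one.2 ⟨rfl, rfl⟩, conj_eq_one_iff, P.eq_one] at f1
    exact r.ne f1.2
  refine ⟨a, d, isConj_iff.2 ⟨m, by rw [P.split, ← conj_mul, e, f1, ← P.split]⟩, d1, lt_of_not_ge fun n => ?_⟩
  let φ' : centralizer {c} → centralizer {d} := fun x => ⟨φ x, mc1.2 (P.cm.1 (f x ▸ f1 ▸ cjc (P.cm.2 ⟨rfl, mc1.1 x.2⟩) m)).2⟩
  have i : Function.Injective φ' := fun x y e =>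
    Subtype.ext (P.eq.1 (conj_injective ((f x).trans ((show φ x = φ y from congrArg Subtype.val e) ▸ (f y).symm)))).2
  have s := ((Nat.bijective_iff_injective_and_card φ').2 ⟨i, (Nat.card_le_card_of_injective _ i).antisymm n⟩).2
  obtain ⟨x, q⟩ : (⟨_, m1⟩ : centralizer (P.U c : Set G)) ∈ ((P.Ψ.comp (.inl T T)).range.comap (MulAut.conj m).toMonoidHom).subgroupOf _ :=
    commutator_le.2 (fun x hx y hy => by
      have k : ∀ x : centralizer (P.U c : Set G), x.1 ∈ Q → ∃ a b, m * x * m⁻¹ = P.Ψ (a, b) ∧ ∀ e, e * d = d * e → e * b = b * e :=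
        fun x p => let ⟨⟨a, b⟩, e⟩ := l1 x p; ⟨a, b, e.symm, fun y q => by
          obtain ⟨w, rfl⟩ : ∃ w, φ w = y := (s ⟨y, mc1.2 q⟩).imp fun _ => congrArg Subtype.val
          exact (P.cm.1 (f w ▸ e ▸ cjc (P.mem_cU.1 x.2 w (mc1.1 w.2)) m)).2⟩
      obtain ⟨x1, x2, e1, e2⟩ := k x hx
      obtain ⟨y1, y2, f2, f3⟩ := k y hy
      refine ⟨x1 * y1 * x1⁻¹ * y1⁻¹, ?_⟩
      simp only [commutatorElement_def, map_mul, map_inv]
      change _ = m * x * m⁻¹ * (m * y * m⁻¹) * (m * x * m⁻¹)⁻¹ * (m * y * m⁻¹)⁻¹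
      rw [e1, f2, P.inv, P.inv, P.mul, P.mul, P.mul, f3 x2 (e2 d rfl).symm]
      simp [← map_mul, ← map_inv]) h4
  replace q : P.Ψ (x, 1) = m * P.Ψ (1, c) * m⁻¹ := q
  rw [f1, P.eq] at q
  exact d1 q.2.symm

theorem up (r : Rp c) (h : IsConj (P.Ψ (a, 1)) (P.Ψ (b, c))) :
    ∃ b d, IsConj (P.Ψ (a, 1)) (P.Ψ (b, d)) ∧ d ≠ 1 ∧ Nat.card (centralizer {c}) < Nat.card (centralizer {d}) := by
  have := P.fin
  obtain ⟨K, l0, l1, -⟩ := P.l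
  have key : ∀ {c}, Rp c → ∀ k, (∀ a, a * c = c * a → ∃ b, k * P.Ψ (1, a) * k⁻¹ = P.Ψ (1, b)) → ∀ a,
      k⁻¹ * P.Ψ (a, 1) * k ∈ ⁅centralizer (P.U c : Set G), centralizer (P.U c : Set G)⁆ := fun r k p a => by
    have : k⁻¹ ⋆ K ≤ centralizer (P.U _ : Set G) := conj_le_iff.2 fun x q => P.mem_cU.2 fun a s => by
      obtain ⟨b, e⟩ := p a s
      rw [cj_eq e]; simpa using cjc (l1 x q b).symm k⁻¹
    have o := (conj_mem_conj (g := k⁻¹)).2 (l0 a)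
    rw [conj_commutator, inv_inv] at o
    exact commutator_mono this this o
  have key' : ∀ {c}, Rp c → ∀ a, P.Ψ (a, c) ∈ ⁅centralizer (P.U c : Set G), centralizer (P.U c : Set G)⁆ →
      P.Ψ (1, c) ∈ ⁅centralizer (P.U c : Set G), centralizer (P.U c : Set G)⁆ := fun r a p => by
    rw [P.split] at p
    exact (mul_mem_cancel_left (by simpa using key r 1 (fun a _ => ⟨a, by simp⟩) a)).1 p
  obtain ⟨g, k, e, p, q⟩ := P.ext H h
  have p1 := fun a => P.in2 H (g := g) H.rz (fun a _ => p _ ⟨(1, a), rfl⟩ (P.cm.2 ⟨by simp, by simp⟩)) (H.zc a)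
  obtain ⟨⟨x, y⟩, f⟩ := p _ ⟨_, rfl⟩ rfl
  rcases H.cz y ((P.k2 H fun a => p _ ⟨(1, a), rfl⟩ (P.cm.2 ⟨by simp, by simp⟩)).2 x y
    fun c => f ▸ cjc (P.cm.2 ⟨by simp, by simp⟩) g) with rfl | rfl
  · obtain ⟨b', d, s, t⟩ := P.tr H r (key' r b (by
      simpa [f, e, mul_assoc] using key r k (fun a => P.in2 H r fun a s => q _ ⟨(1, a), rfl⟩ (P.cm.2 ⟨by simp, s⟩)) x)) b
    exact ⟨b', d, h.trans s, t⟩
  · choose φ s using p1
    have i : Function.Surjective φ := Finite.surjective_of_injective fun x y e =>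
      (P.eq.1 (conj_injective ((s x).trans (e ▸ (s y).symm)))).2
    obtain ⟨-, d, -, -, t⟩ := P.tr H H.rz (key' H.rz x (by
      simpa [f] using key H.rz g⁻¹ (fun b _ => let ⟨c, e⟩ := i b; ⟨c, by rw [← e, ← s]; group⟩) a)) 1
    exact absurd (card_le_of_le fun a _ => mc1.2 (H.zc a)) (not_le.2 t)

theorem strong (k : ℕ) : ∀ {a b c : T}, a ^ 2 ^ k = 1 → IsConj (P.Ψ (a, 1)) (P.Ψ (b, c)) → c = 1 := by
  have := P.fin
  induction k with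
  | zero => exact fun ha => P.invol H (by simp_all)
  | succ k ih =>
    intro a b c ha h
    have sq : ∀ {b c}, IsConj (P.Ψ (a, 1)) (P.Ψ (b, c)) → c * c = 1 := fun {b c} h =>
      ih (a := a * a) (b := b * b) (by rw [← sq, ← pow_mul, ← pow_succ', ha]) (by
        obtain ⟨g, e⟩ := isConj_iff.1 h
        exact isConj_iff.2 ⟨g, by rw [← P.mul, ← e, conj_mul, P.mul, one_mul]⟩)
    have nz : ∀ {b}, ¬IsConj (P.Ψ (a, 1)) (P.Ψ (b, z)) := fun h =>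
      let ⟨_, _, _, _, t⟩ := P.up H H.rz h; absurd (card_le_of_le fun a _ => mc1.2 (H.zc a)) (not_le.2 t)
    by_contra c1
    obtain ⟨b, d, s, d1, t⟩ := P.up H H.ru (h.trans ((P.side (sq h) c1 b).resolve_left fun p => nz (h.trans p)).1)
    exact absurd ((P.side (sq s) d1 b).resolve_left fun p => nz (s.trans p)).2 (not_le.2 t)

theorem sc : IsStronglyClosed (P.Ψ.comp (.inl T T)).range (P.S H) := ⟨by rintro _ ⟨a, rfl⟩; exact ⟨_, rfl⟩, by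
  rintro _ ⟨a, rfl⟩ g ⟨⟨b, c⟩, e⟩
  obtain ⟨k, l⟩ := H.pg a
  obtain rfl := P.strong H k l (isConj_iff.2 ⟨g, e.symm⟩)
  exact ⟨b, e⟩⟩

include P in
theorem not_simple : ¬IsSimpleGroup G := fun _ => by
  have e : P.swap.S H = P.S H := Sylow.ext P.rs
  have h := Cfsg.Agent.S2767.result (P.S H) _ _ (P.sc H) (e ▸ P.swap.sc H) (by
    rintro _ ⟨a, rfl⟩ _ ⟨b, rfl⟩
    exact (P.mul ..).trans (.trans (by simp) (P.mul ..).symm))
  have k : ∀ Q : Pr G z u, normalClosure ((Q.Ψ.comp (.inl T T)).range : Set G) = ⊤ := fun Q =>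
    (normalClosure_normal.eq_bot_or_eq_top).resolve_left fun e => H.rz.ne (Q.eq_one.1 (mem_bot.1 (e.le (subset_normalClosure ⟨_, rfl⟩)))).1
  have l : pPrimeCore 2 G = ⊥ := (Normal.eq_bot_or_eq_top inferInstance).resolve_right fun e => Core.not_dvd_card_pPrimeCore 2 G (by
    rw [e, card_top]
    exact (orderOf_eq_prime (x := P.Ψ (z, 1)) (by rw [sq, P.mul, H.rz.sq, one_mul]; exact map_one _)
      fun e => H.rz.ne (P.eq_one.1 e).1) ▸ orderOf_dvd_natCard _)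
  rw [k, k, l, show (P.Ψ.comp (.inl T T)).range ⊓ (P.swap.Ψ.comp (.inl T T)).range = ⊥ from eq_bot_iff.2 (by
    rintro _ ⟨⟨a, rfl⟩, b, e⟩
    exact P.eq_one.2 ⟨(P.eq.1 e).1.symm, rfl⟩), normalClosure_eq_self] at h
  obtain ⟨K, l0, -⟩ := P.l
  exact H.rz.ne (P.eq_one.1 (mem_bot.1 ((h.trans_eq (bot_sup_eq _)) (commutator_mono le_top le_top (l0 z))))).1

end Pr

end Cfsg.Lib.SH
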