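import Cfsg.Agent.Lib.SH.Fin
import Cfsg.Agent.Lib.SG.Main

/-! # Standard subgroups of type `J` -/

set_option autoImplicit false

namespace Cfsg.Lib.SH

open Subgroup Cfsg.Lib.Transfer Cfsg.Lib.SG

variable {J : Type*} {G : Type*} [Group J] [Group G] [Finite G] {D : Dt J} {A : Subgroup G}

theorem not_le (F : Fx D) (hA : IsStandardSubgroup A) (hn : ¬A.Normal) (e : A ≃* J) {L : Subgroup G} [L.Normal]
    (sL : IsSimpleGroup L) (le : A ≤ L) : False := by
  have z1 : ∀ x ∈ A, x ∈ centralizer (A : Set G) → x = 1 := fun x p q =>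
    congrArg Subtype.val ((map_eq_one_iff e e.injective (x := ⟨x, p⟩)).1 (F.cen1 (e.surjective.forall.2 fun y => by
      rw [← map_mul, ← map_mul]; exact congrArg e (Subtype.ext (q y y.2)))))
  obtain ⟨Q, rfl, -⟩ := exists_qs F e.toMonoidHom e.surjective (fun x p => by rw [(map_eq_one_iff _ e.injective).1 p]; exact one_mem _)
    (fun x p _ => z1 x p.1 p.2) (by rw [← A.map_subtype_commutator, hA.1.1.commutator_eq_top, ← MonoidHom.range_eq_map, range_subtype])
  have h0 : ∀ g ∉ Q.N, OD (Q.K ⊓ (Q.cj g).K) := fun g n k p => od_of_odd (hA.2.1.2 g (hA.2.2.2 ▸ n)) k ⟨p.1, mem_conj.2 (Q.cj_K.1 p.2)⟩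
  let S : St J G := ⟨Q, fun k g p q r s => by_contra fun n => q (h0 g n k ⟨r, Q.cj_K.2 (by rwa [mul_assoc, ← s, inv_mul_cancel_left])⟩ p), z1⟩
  obtain ⟨t, ht, t2, t1⟩ := ex_inv (Nat.not_odd_iff_even.2 hA.2.1.1)
  obtain ⟨g, u, n, c, u2, u1, m⟩ : ∃ g u, g ∉ Q.N ∧ g⁻¹ * u * g ∈ Q.K ∧ u * u = 1 ∧ u ≠ 1 ∧ u ∈ Q.N := by
    by_contra! l
    rcases Agent.S1911.result _ hA.2.1 (fun g m => by_contra fun h => by
      obtain ⟨u, p, u2, u1⟩ := ex_inv h
      exact l g u (fun z => m (hA.2.2.2.le z)) (mem_conj.1 p.1) u2 u1 (hA.2.2.2.ge p.2)) with h | h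
    · exact hn (normalizer_eq_top_iff.1 (hA.2.2.2.trans (normalizer_eq_top_iff.2 h)))
    rcases Normal.eq_bot_or_eq_top (inferInstance : ((normalClosure (centralizer (Q.A : Set G) : Set G)).subgroupOf L).Normal) with p | p
    · refine hn (normalizer_eq_top_iff.1 (hA.2.2.2.trans (normalizer_eq_top_iff.2 ?_)))
      rw [le_antisymm (fun x hx y hy => ?_) (centralizer_le le : centralizer (L : Set G) ≤ _)]
      · infer_instance
      · exact mul_inv_eq_iff_eq_mul.1 (mul_inv_eq_one.1 (congrArg Subtype.val (mem_bot.1 (p.le (show (⟨y * x * y⁻¹ * x⁻¹, by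
          simpa [mul_assoc] using mul_mem hy (Normal.conj_mem inferInstance _ (inv_mem hy) x)⟩ : L) ∈ _ from
          mul_mem (Normal.conj_mem inferInstance _ (subset_normalClosure hx) y) (inv_mem (subset_normalClosure hx)))))))
    · obtain ⟨x, z, x2⟩ := Q.ex2 F.z2
      have x1 : x ∉ Q.K := fun e => F.z1 (z.eq_one F e)
      have x1' : x ≠ 1 := fun e => x1 (e ▸ one_mem _)
      obtain ⟨g, e⟩ := isConj_iff.1 (Inv.se_isConj h (s := ⟨t, subset_normalClosure ht⟩) (t := ⟨x, subgroupOf_eq_top.1 p (le z.1)⟩)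
        ((orderOf_coe _).symm.trans (ord2 t2 t1)) ((orderOf_coe _).symm.trans (ord2 x2 x1')))
      replace e : g.1 * t * g.1⁻¹ = x := congrArg Subtype.val e
      exact l g _ (fun m => x1 (e ▸ Q.cK m ht)) (by simpa [← e, mul_assoc] using show t ∈ Q.K from ht) x2 x1' z.N
  obtain ⟨W, w⟩ := S.exists_wr F le h0 (fun g n z => hA.2.2.1 g (fun p => n (conj_eq_self_iff.1 p))
    (commutator_eq_bot_iff_le_centralizer.2 z)) n (Q.cj_K.2 c) u2 u1 m
  exact W.not_simple F w

theorem no_std (F : Fx D) (hF : IsSimpleGroup (generalizedFittingSubgroup G))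
    (hF' : ¬IsMulCommutative (generalizedFittingSubgroup G)) (hA : IsStandardSubgroup A) (e : A ≃* J) : False := by
  have q := Comp.isQuasisimple_of_isSimpleGroup hF'
  have k : ∀ N : Subgroup G, N.Normal → N = ⊥ ∨ generalizedFittingSubgroup G ≤ N := fun N n => by
    refine ((n.subgroupOf (generalizedFittingSubgroup G)).eq_bot_or_eq_top).imp (fun p => eq_bot_iff.2 fun x hx => ?_) subgroupOf_eq_top.1
    have c : x ∈ centralizer (generalizedFittingSubgroup G : Set G) := fun y hy =>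
      mul_inv_eq_iff_eq_mul.1 (mul_inv_eq_one.1 (congrArg Subtype.val (mem_bot.1 (p.le (show (⟨y * x * y⁻¹ * x⁻¹, by
          simpa [mul_assoc] using mul_mem hy (Normal.conj_mem inferInstance _ (inv_mem hy) x)⟩ : generalizedFittingSubgroup G) ∈ _ from
          mul_mem (n.conj_mem _ hx y) (inv_mem hx))))))
    exact congrArg Subtype.val (mem_bot.1 (((Normal.eq_bot_or_eq_top inferInstance).resolve_right (Comp.isQuasisimple_center_ne_top q)).le
      (show (⟨x, Comp.centralizer_genFitting_le c⟩ : generalizedFittingSubgroup G) ∈ center _ from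
        mem_center_iff.2 fun y => Subtype.ext (c y y.2))))
  have hO := (k (oddCore G) inferInstance).resolve_right (Comp.qs_not_le_of_isSolvable q (PF.isSolvable_of_odd _ (Core.odd_card_oddCore G)))
  obtain ⟨t, ht, t2, t1⟩ := ex_inv (Nat.not_odd_iff_even.2 hA.2.1.1)
  have hn : ¬A.Normal := fun n => Comp.qs_not_le_centralizer q (((k _ inferInstance).resolve_left fun z => t1 (mem_bot.1 (z.le ht))).trans
      (centralizer_le ((k A n).resolve_left (Comp.qs_ne_bot hA.1))))
  rcases Agent.S1347.result A hA hO t (ord2 t2 t1) ht with e | ⟨X, -, -, ⟨e⟩, c, i, s, -⟩ | ⟨a, b, -⟩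
  · exact hn e
  swap
  · exact not_le F hA hn e b a
  let φ := X.subtype.noncommCoprod (X.map (MulAut.conj t).toMonoidHom).subtype fun x y => c x x.2 y y.2
  have f := ((MulEquiv.subgroupCongr (s.symm.trans ((MonoidHom.noncommCoprod_range _ _ _).trans (by
      rw [range_subtype, range_subtype])).symm)).trans (MonoidHom.ofInjective (f := φ) ((MonoidHom.noncommCoprod_injective _ _ _).2
        ⟨X.subtype_injective, subtype_injective _, by rw [range_subtype, range_subtype, disjoint_iff, i]⟩)).symm).trans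
      (e.prodCongr (((MulAut.conj t).subgroupMap X).symm.trans e))
  have := Comp.isQuasisimple_nontrivial hA.1
  obtain ⟨a, a1⟩ := exists_ne (1 : A)
  rcases k (layer G) inferInstance with p | p
  · exact a1 (Prod.ext_iff.1 ((map_eq_one_iff _ f.symm.injective (x := (a, 1))).1 (Subtype.ext (mem_bot.1 (p.le (f.symm _).2))))).1
  have := ((MulEquiv.subgroupCongr (le_antisymm p Comp.layer_le_genFitting)).trans f).symm.isSimpleGroup
  rcases (MonoidHom.fst A A).normal_ker.eq_bot_or_eq_top with p | p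
  exacts [a1 (Prod.ext_iff.1 (mem_bot.1 (p.le (show (1, a) ∈ _ from rfl)))).2, a1 (p.ge (mem_top (a, a)))]

end Cfsg.Lib.SH
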