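import Cfsg.Agent.Lib.SH.Qs
import Cfsg.Agent.Lib.SH.Ad

/-! # Two conjugates of a standard subgroup -/

set_option autoImplicit false

namespace Cfsg.Lib.SH

open Subgroup Cfsg.Lib.Transfer Cfsg.Lib.SG
open MulAut (conj)

variable {J G : Type*} [Group J] [Group G] {D : Dt J}

/-- a covering group normalised by the centralisers of the involutions that centralise it -/
structure St (J G : Type*) [Group J] [Group G] extends Qs J G where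
  cn : ∀ k g, k * k = 1 → k ≠ 1 → k ∈ toQs.K → g * k = k * g → g ∈ toQs.N
  z1 : ∀ x ∈ toQs.A, x ∈ toQs.K → x = 1

namespace St

variable (S T : St J G) {g k u s d : G}

/-- the conjugate copy -/
def cj (g : G) : St J G where
  toQs := S.toQs.cj g
  cn k h p q r s := S.cj_N.2 (S.cn _ _ (by simpa using cj2 p g⁻¹) (by simpa using cj1 q g⁻¹) (S.cj_K.1 r) (by simpa using cjc s g⁻¹))
  z1 x p q := by simpa [mul_assoc] using congrArg (fun y => g * y * g⁻¹) (S.z1 _ (mem_conj.1 p) (S.cj_K.1 q))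

variable [Finite G] (F : Fx D)
include F

theorem rr (h1 : ¬S.A ≤ T.K) (hu : u ∈ T.K) (u2 : u * u = 1) (u1 : u ≠ 1) (uN : u ∈ S.N) {x r : G} {j : J} (p : S.L x j) (x2 : x * x = 1)
    (j2 : j * j = 1) (j1 : j ≠ 1) (e : S.π u = conj j) (m : x * u ∈ S.K) (hr : r ∈ T.K) (rN : r ∈ S.N) (b : r * u = u * r) :
    ∃ y, S.π r = conj y ∧ y ^ 4 = 1 ∧ (r ∈ S.K ∨ r * u ∈ S.K ∨ x ∈ T.K ∧ (D.e → Em j y)) := by
  have hj : ∀ {y c}, S.L y c → c * j = j * c → y * u = u * y := fun q r => by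
    rw [← sq2 x2 u]; exact Commute.mul_right (q.comm p x2 r) (q.K m)
  have hj' : ∀ {y c}, S.L y c → y * u = u * y → c * j = j * c := fun q r => cjf.1 (by simpa [q.2] using S.πfix F q.N uN e r)
  have I := F.iv j j2 j1
  have : Finite J := .of_surjective _ (S.ρ_sur F)
  have sm := (I.r3 (S.im (T.K ⊓ centralizer {u})) (fun _ ⟨_, q, r⟩ => hj' r (mc1.1 q.2)) fun c q _ ⟨y, r, o⟩ => by
      obtain ⟨w, l⟩ := S.ex' c
      have := hj l q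
      exact ⟨_, mem_inf.2 ⟨T.cK (T.cn u w u2 u1 hu this) r.1, mul_mem (mul_mem (mc1.2 this) r.2) (inv_mem (mc1.2 this))⟩, (l.mul o).mul l.inv⟩
    ).resolve_right fun ⟨i, ⟨y, q, r⟩, i2, i1, h⟩ => by
      obtain ⟨v, r, y2⟩ := r.invol i2
      replace q := pow_mem q (2 * v + 1)
      generalize y ^ (2 * v + 1) = y at *
      refine h1 (r.top F i1 q.1 ((Qs.le_of_im (h (S.im T.N) (fun c o => ?_) fun c o => ?_)).trans (normalizer_le_normalizer_centralizer' _)))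
      · exact let ⟨w, l⟩ := S.ex' c; ⟨w, T.cn u w u2 u1 hu (hj l o), l⟩
      · exact let ⟨w, l⟩ := S.ex' c; ⟨w, T.cn _ w y2 (fun z => i1 (r.eq_one F (z ▸ one_mem _))) q.1 (l.comm r y2 o), l⟩
  have k : ∀ {w c}, S.L w c → c * j = j * c → w * (r * w * r⁻¹)⁻¹ ∈ T.K ⊓ centralizer {u} := fun {w c} l q =>
    have a := hj l q
    mem_inf.2 ⟨by simpa [mul_assoc] using mul_mem (T.cK (T.cn u w u2 u1 hu a) hr) (inv_mem hr), mul_mem (mc1.2 a)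
      (inv_mem (mul_mem (mul_mem (mc1.2 b) (mc1.2 a)) (inv_mem (mc1.2 b))))⟩
  have f := S.πfix F rN uN e b
  obtain ⟨y, a1, a2, a3⟩ := I.fq (S.π r) f (C0_ind (X := (S.π r).toMonoidHom.eqLocus (.id J)) fun c m q o => by
    obtain ⟨w, l⟩ := S.ex' c
    obtain ⟨z4, z⟩ := sm _ ⟨_, k l q, l.mul (l.cj rN).inv⟩
    have := congrArg (· ^ (2 * m + 1)) (inv_mul_cancel_right c (S.π r c))
    simp only [o] at this
    rw [Commute.mul_pow (z _ (f ▸ C0_map1 _ (mem_C0 q o))).symm, ← map_pow, o, map_one, mul_one] at this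
    exact (mul_inv_eq_one.1 (mem_bot.1 (mem_of_odd (k := 2) z4 (this ▸ one_mem ⊥)))).symm)
  refine ⟨y, a1, a2, a3.imp (fun z => (S.π1 rN).1 (by rw [a1, z, map_one])) (.imp (fun z => (S.π1 (mul_mem rN uN)).1 ?_)
    (.imp_left fun ⟨c, q, z⟩ => ?_))⟩
  · rw [S.πm rN uN, a1, z, e, ← map_mul, j2, map_one]
  obtain ⟨w, l⟩ := S.ex' c
  have := l.mul (l.cj rN).inv
  rw [a1] at f
  rw [a1, show c * (conj y c)⁻¹ = j by rw [← f, MulAut.conj_apply, MulAut.conj_apply, ← z]; group] at this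
  exact inv_mul_eq_one.1 (S.z1 _ (p.z this).1 (p.z this).2) ▸ (k l q).1

theorem pair (h0 : OD (S.K ⊓ T.K)) (h1 : ¬S.A ≤ T.K) (hu : u ∈ T.K) (u2 : u * u = 1) (u1 : u ≠ 1) (uN : u ∈ S.N) (ui : Inn (S.π u))
    (uA : u ∉ S.A) (hs : s ∈ S.K) (s2 : s * s = 1) (s1 : s ≠ 1) (c : s * u = u * s) (si : Inn (T.π s)) (hd : d ∈ T.K) (f : d * u = u * d) :
    d ∈ S.K ∨ d * u ∈ S.K := by
  obtain ⟨x, j, p, x2, j2, e, m, xu⟩ := S.dec2 F uN u2 ui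
  have sN := T.cn u s u2 u1 hu c
  obtain ⟨x', j', p', x2', j2', e', m', c'⟩ := T.dec2 F sN s2 si
  have j1 : j ≠ 1 := fun z => u1 (h0 u ⟨(S.π1 uN).1 (by rw [e, z, map_one]), hu⟩ u2)
  have R : ∀ r ∈ T.K, r * s = s * r → r * u = u * r → r ∈ S.K ∨ r * u ∈ S.K := fun r hr a b =>
    let ⟨_, _, _, z⟩ := S.rr T F h1 hu u2 u1 uN p x2 j2 j1 e m hr (S.cn s r s2 s1 hs a) b
    z.imp_right (·.resolve_right fun z => uA (eq_inv_of_mul_eq_one_right (h0 _ ⟨m, mul_mem z.1 hu⟩ (sq_of_comm x2 u2 xu)) ▸ inv_mem p.1))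
  have l2 : x' * s * (x' * s) = 1 := sq_of_comm x2' s2 c'
  have lu : x' * s * u = u * (x' * s) := Commute.mul_left (p'.K hu) c
  have l1 : x' * s = 1 ∨ x' * s = u := (R _ m' (Commute.mul_left c' (.refl s)) lu).imp (fun z => h0 _ ⟨z, m'⟩ l2) fun z =>
    (eq_inv_of_mul_eq_one_left (h0 _ ⟨z, mul_mem m' hu⟩ (sq_of_comm l2 u2 lu))).trans (inv2 u2)
  refine R d hd ?_ f
  rw [← sq2 x2' s]
  exact Commute.mul_right (p'.K hd).symm (l1.elim (fun z => z ▸ Commute.one_right d) fun z => z ▸ f)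

omit F in
theorem cjK (h0 : OD (S.K ⊓ T.K)) (hs : s ∈ S.K) (s2 : s * s = 1) (p2 : ∀ d ∈ S.K, d * s = s * d → d ∈ T.K ∨ d * s ∈ T.K)
    (m : k ∈ S.K) (m2 : k * k = 1) (m1 : k ≠ 1) : ∃ y ∈ S.K, y * s * y⁻¹ = k := by
  obtain ⟨⟨y, hy⟩, l⟩ := isConj_iff.1 (show IsConj (⟨s, hs⟩ : S.K) ⟨_, m⟩ from by_contra fun n => by
    obtain ⟨z, -, o, p, q⟩ := Inv.exists_commute_of_not_isConj (Subtype.ext s2) (Subtype.ext m2) n
    have key : ∀ z : S.K, z * z = 1 → z ≠ 1 → Commute z ⟨s, hs⟩ → z = ⟨s, hs⟩ := fun z z2 z1 p => by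
      have p : z.1 * s = s * z := congrArg Subtype.val p
      have z2 : z.1 * z = 1 := congrArg Subtype.val z2
      rcases p2 z z.2 p with r | r
      · exact absurd (Subtype.ext (h0 _ ⟨z.2, r⟩ z2)) z1
      · exact Subtype.ext ((eq_inv_of_mul_eq_one_left (h0 _ ⟨mul_mem z.2 hs, r⟩ (sq_of_comm z2 s2 p))).trans (inv2 s2))
    rw [key z (by rw [← pow_two, ← o, pow_orderOf_eq_one]) (fun e => by simp [e] at o) p] at q
    exact n (key _ (Subtype.ext m2) (fun e => m1 (congrArg Subtype.val e)) q.symm ▸ .refl _))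
  exact ⟨y, hy, congrArg Subtype.val l⟩

end St

/-- an involution `t` centralising `A` with `C(A) ∩ C(t) = O × ⟨t⟩` -/
structure Co (J G : Type*) [Group J] [Group G] extends Qs J G where
  t : G
  O : Subgroup G
  t2 : t * t = 1
  t1 : t ≠ 1
  tK : t ∈ toQs.K
  cn : ∀ g, g * t = t * g → g ∈ toQs.N
  oO : OD O
  OK : O ≤ toQs.K
  Ot : ∀ o ∈ O, o * t = t * o
  kt : ∀ k ∈ toQs.K, k * t = t * k → k ∈ O ∨ k * t ∈ O

/-- two commuting covering groups interchanged by `t` -/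
structure Wr (J G : Type*) [Group J] [Group G] extends Co J G where
  Q : Qs J G
  c : ∀ x ∈ Q.A, ∀ y ∈ Q.A, x * (t * y * t) = t * y * t * x
  QO : Q.A ≤ centralizer (O : Set G)
  μ : ∀ x a, Q.L x a → ∃ w, toQs.L w a ∧ ∃ o ∈ O, x * (t * x * t) = w * o

namespace Co

variable (S : Co J G) {g k x y : G} {a : J}

theorem tO : S.t ∉ S.O := fun h => S.t1 (S.oO _ h S.t2)
theorem tt (g : G) : S.t * (S.t * g) = g := sq2 S.t2 g
theorem t_mul (x y : G) : S.t * (x * y) * S.t = S.t * x * S.t * (S.t * y * S.t) := by simp [mul_assoc, S.tt]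
theorem t_t (g : G) : S.t * (S.t * g * S.t) * S.t = g := by simp [mul_assoc, S.tt, S.t2]
theorem cO (h : ∀ o ∈ S.O, o * x = x * o) : x ∈ normalizer (S.O : Set G) := centralizer_le_normalizer _ h
theorem AO (h : x ∈ S.A) : x ∈ normalizer (S.O : Set G) := S.cO fun _ p => (S.OK p x h).symm

theorem odd_mem (p : k ∈ S.K) (q : k * S.t = S.t * k) {m : ℕ} (e : k ^ (2 * m + 1) = 1) : k ∈ S.O := (S.kt k p q).elim id fun r => by
  have := pow_mem r (2 * m + 1)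
  rw [Commute.mul_pow q, e, pow_odd S.t2, one_mul] at this
  exact absurd this S.tO

variable [Finite G]

theorem ZO (p : k ∈ S.A ⊓ S.K) : k ∈ S.O := let ⟨_, e⟩ := S.odd.pow p; S.odd_mem p.2 (S.tK k p.1) e
theorem nO (h : g * S.t = S.t * g) : g ∈ normalizer (S.O : Set G) := mem_normalizer_fintype fun o p => by
  obtain ⟨m, e⟩ := S.oO.pow p
  exact S.odd_mem (S.cK (S.cn g h) (S.OK p)) (Commute.mul_left (Commute.mul_left h (S.Ot o p)) (Commute.inv_left h)) (m := m)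
    (by rw [conj_pow, e, mul_one, mul_inv_cancel])

/-- the quotient map -/
abbrev q : normalizer (S.O : Set G) →* _ ⧸ S.O.subgroupOf (normalizer (S.O : Set G)) := QuotientGroup.mk' _
omit [Finite G] in
theorem q1 {x} : S.q x = 1 ↔ x.1 ∈ S.O := QuotientGroup.eq_one_iff _
omit [Finite G] in
theorem q2 {x y} : S.q x = S.q y ↔ x.1⁻¹ * y.1 ∈ S.O := by rw [← inv_mul_eq_one, ← map_inv, ← map_mul, q1]; rfl

theorem exists_cs (F : Fx D) : ∃ T : Cs J (_ ⧸ S.O.subgroupOf (normalizer (S.O : Set G))), T.t = S.q ⟨_, S.cO S.Ot⟩ ∧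
    ∀ x a (h : S.L x a), T.ψ a = S.q ⟨x, S.AO h.1⟩ := by
  choose l hl using S.ex'
  have k : ∀ x a (h : S.L x a), S.q ⟨l a, S.AO (hl a).1⟩ = S.q ⟨x, S.AO h.1⟩ := fun x a h => S.q2.2 (S.ZO ((hl a).z h))
  let ψ : J →* _ := .mk' (fun a => S.q ⟨l a, S.AO (hl a).1⟩) fun a b => (k _ _ ((hl a).mul (hl b))).trans (map_mul S.q ⟨_, _⟩ ⟨_, _⟩)
  have i : Function.Injective ψ := (injective_iff_map_eq_one _).2 fun a e => (hl a).eq_one F (S.OK (S.q1.1 e))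
  have c : ∀ x, S.q x * S.q ⟨_, S.cO S.Ot⟩ = S.q ⟨_, S.cO S.Ot⟩ * S.q x → x.1 * S.t = S.t * x := fun x e => by
    have k : S.t⁻¹ * (x.1 * S.t * x.1⁻¹) ∈ S.O := (S.q2 (x := ⟨_, S.cO S.Ot⟩) (y := x * ⟨_, S.cO S.Ot⟩ * x⁻¹)).1 (by
      rw [map_mul, map_mul, e, map_inv, mul_inv_cancel_right])
    refine cjf.1 (inv_mul_eq_one.1 (S.oO _ k (sq_of_comm (by rw [inv2 S.t2, S.t2]) (cj2 S.t2 _) ?_))).symm
    rw [← mul_right_inj S.t, ← S.Ot _ k, inv2 S.t2, mul_assoc, ← mul_assoc S.t, mul_assoc]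
  have m : ∀ x : normalizer (S.O : Set G), x.1 * S.t = S.t * x → ∀ a, S.q x * ψ a * (S.q x)⁻¹ = ψ (S.π x a) := fun x e a =>
    .trans (by rw [← map_inv]; exact (congrArg (· * _) (map_mul S.q x _).symm).trans (map_mul ..).symm) (k _ _ ((hl a).cj (S.cn _ e))).symm
  refine ⟨⟨ψ, _, i, (map_mul ..).symm.trans (S.q1.2 (show S.t * S.t ∈ _ from S.t2 ▸ one_mem _)), fun a =>
    (map_mul ..).symm.trans ((congrArg S.q (Subtype.ext ((hl a).K S.tK).symm)).trans (map_mul ..)), fun a e => S.tO ?_,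
    (QuotientGroup.mk'_surjective _).forall.2 fun x e => ⟨_, m x (c x e)⟩, (QuotientGroup.mk'_surjective _).forall.2 fun x e f => ?_⟩, rfl, k⟩
  · have := S.q2.1 e
    exact (mul_mem_cancel_left (inv_mem (S.ZO ⟨(hl a).1, by simpa using mul_mem S.tK (inv_mem (S.OK this))⟩))).1 this
  · refine (S.kt x ((S.π1 (S.cn _ (c x e))).1 (MulEquiv.ext fun a => i ((m x (c x e) a).symm.trans (cjf.2 (f a))))) (c x e)).imp S.q1.2
      fun p => (S.q2.2 ?_).symm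
    rwa [inv2 S.t2, ← c x e]

theorem cm (F : Fx D) (p : x * S.t = S.t * x) (q : y * S.t = S.t * y) : x * y * x⁻¹ * y⁻¹ ∈ S.A ⊔ S.O := by
  obtain ⟨T, e, f⟩ := S.exists_cs F
  have k : ∀ x (p : x * S.t = S.t * x), S.q ⟨x, S.nO p⟩ * T.t = T.t * S.q ⟨x, S.nO p⟩ := fun x p =>
    e ▸ (map_mul ..).symm.trans ((congrArg S.q (Subtype.ext p)).trans (map_mul ..))
  obtain ⟨a, r⟩ := T.cmH F (k x p) (k y q)
  obtain ⟨w, l⟩ := S.ex' a
  rw [f w a l, ← map_inv, ← map_inv, ← map_mul, ← map_mul, ← map_mul, eq_comm, S.q2] at r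
  exact (mul_mem_cancel_left (mem_sup_left (inv_mem l.1))).1 (mem_sup_right r)

omit [Finite G] in
theorem mem_D : x ∈ S.A ⊔ S.O ↔ ∃ w ∈ S.A, ∃ o ∈ S.O, x = w * o :=
  ⟨fun h => exists_mul_of_mem_sup' (fun _ => S.AO) (sup_comm S.A _ ▸ h), fun ⟨_, p, _, q, e⟩ => e ▸ mul_mem_sup p q⟩
theorem DK (p : x ∈ S.A ⊔ S.O) (q : x ∈ S.K) : x ∈ S.O := by
  obtain ⟨w, a, o, b, rfl⟩ := S.mem_D.1 p
  exact mul_mem (S.ZO ⟨a, (mul_mem_cancel_right (S.OK b)).1 q⟩) b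

theorem nd (F : Fx D) (Q : Qs J G) {u : G} {j : J} (p : Q.L u j) (u2 : u * u = 1) (d : Der j) : S.t ≠ g * u * g⁻¹ := fun e => by
  obtain ⟨a, b, a1, b1, f⟩ := d
  obtain ⟨a', a2⟩ := Q.ex' a
  obtain ⟨b', b2⟩ := Q.ex' b
  obtain ⟨m, q⟩ := (((a2.mul b2).mul a2.inv).mul b2.inv).opow (f ▸ p) u2
  have := pow_mem (S.cm F (e ▸ cjc (a2.comm p u2 a1) g) (e ▸ cjc (b2.comm p u2 b1) g)) (2 * m + 1)
  rw [conj_mul, conj_inv, conj_inv, conj_mul, conj_mul, conj_pow, q, ← e] at this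
  exact S.tO (S.DK this S.tK)

theorem wr_of (F : Fx D) {s : Set J} {γ : J → G} (a1 : closure s = ⊤) (b1 : ∀ a ∈ s, γ a ∈ centralizer (S.O : Set G))
    (b3 : ∀ a ∈ s, γ a * γ a = 1) (b4 : ∀ a ∈ s, ∀ b ∈ s, γ a * (S.t * γ b * S.t) = S.t * γ b * S.t * γ a)
    (c3 : ∀ a ∈ s, ∃ w, S.L w a ∧ w⁻¹ * (γ a * (S.t * γ a * S.t)) ∈ S.O) : ∃ W : Wr J G, W.Q.A = closure (γ '' s) := by
  have ti := inv2 S.t2
  have c1 : ∀ y ∈ closure (γ '' s), ∀ w ∈ closure (γ '' s), y * (S.t * w * S.t) = S.t * w * S.t * y := fun y hy w hw => by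
    have : closure (γ '' s) ≤ (centralizer {y}).comap (conj S.t).toMonoidHom := (closure_le _).2 (by
      rintro _ ⟨b, hb, rfl⟩
      have : closure (γ '' s) ≤ centralizer {S.t * γ b * S.t} := (closure_le _).2 (by rintro _ ⟨a, ha, rfl⟩; exact mc1.2 (b4 a ha b hb))
      simpa [mc1, ti] using (mc1.1 (this hy)).symm)
    simpa [mc1, ti, eq_comm] using this hw
  have c4 : ∀ a ∈ s, γ a ∈ closure (γ '' s) := fun a ha => subset_closure ⟨a, ha, rfl⟩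
  have c5 : ∀ X : Subgroup G, (∀ a ∈ s, γ a ∈ X) → closure (γ '' s) ≤ X := fun X h => (closure_le _).2 (by rintro _ ⟨a, ha, rfl⟩; exact h a ha)
  generalize closure (γ '' s) = B at *
  have c2 := c5 _ b1
  let μ : B →* G := .mk' (fun y => y * (S.t * y * S.t)) fun y w => by
    rw [coe_mul, S.t_mul, mul_assoc, ← mul_assoc w.1, c1 _ w.2 _ y.2]; simp only [mul_assoc]
  have d1 : ∀ y : B, ∃ a w, S.L w a ∧ ∃ o ∈ S.O, μ y = w * o := fun y => by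
    obtain ⟨y', p, e⟩ := c5 (((S.A ⊔ S.O).comap μ).map B.subtype) (fun a ha => ⟨⟨_, c4 a ha⟩, by
      obtain ⟨w, l, m⟩ := c3 a ha
      exact (mul_mem_cancel_left (mem_sup_left (inv_mem l.1))).1 (mem_sup_right m), rfl⟩) y.2
    obtain ⟨w, l, o, m, f⟩ := S.mem_D.1 (Subtype.ext e ▸ p : μ y ∈ _)
    exact let ⟨a, l⟩ := S.ex l; ⟨a, w, l, o, m, f⟩
  choose ρ d1 using d1
  have d2 : ∀ {g w o a}, S.L w a → o ∈ S.O → g = w * o → g ∈ S.N ∧ S.π g = conj a := fun l m f =>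
    f ▸ ⟨mul_mem l.N (S.KN (S.OK m)), by rw [S.πm l.N (S.KN (S.OK m)), S.πK (S.OK m), mul_one, l.2]⟩
  have d3 := fun y => let ⟨_, l, _, m, f⟩ := d1 y; d2 l m f
  let ρ' : B →* J := .mk' ρ fun x y => F.cj_inj (by rw [← (d3 _).2, map_mul, S.πm (d3 _).1 (d3 _).1, (d3 _).2, (d3 _).2, map_mul])
  have d4 : ∀ a ha, ρ' ⟨γ a, c4 a ha⟩ = a := fun a ha => let ⟨w, l, m⟩ := c3 a ha
    F.cj_inj ((d3 _).2.symm.trans (d2 l m (mul_inv_cancel_left w _).symm).2)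
  have d5 : ρ'.range = ⊤ := top_le_iff.1 (a1.ge.trans ((closure_le _).2 fun a ha => ⟨_, d4 a ha⟩))
  have d6 : ∀ y, ρ' y = 1 → μ y ∈ S.O := fun y e => by
    obtain ⟨w, l, o, m, f⟩ := d1 y
    exact f ▸ mul_mem (S.ZO ⟨l.1, ((show ρ y = 1 from e) ▸ l).one⟩) m
  have d7 : ∀ y, ρ' y = 1 → y.1 ∈ centralizer (B : Set G) := fun y e w hw => by
    have := c2 hw _ (d6 y e)
    change y.1 * _ * _ = _ * (y.1 * _) at this
    rwa [mul_assoc, ← c1 _ hw _ y.2, ← mul_assoc y.1 w, ← mul_assoc w, mul_left_inj, eq_comm] at this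
  have d8 : OD (B ⊓ centralizer (B : Set G)) := fun y p y2 => by
    have e := S.oO _ (d6 ⟨y, p.1⟩ (F.cen1 fun a => by
      obtain ⟨x, rfl⟩ := d5.ge (mem_top a)
      rw [← map_mul, ← map_mul]; exact congrArg ρ' (Subtype.ext (p.2 x x.2)))) (by rw [← map_mul, show (⟨y, _⟩ * ⟨y, _⟩ : B) = 1 from Subtype.ext y2, map_one])
    replace e : y * S.t = S.t * y := by
      have e : y * (S.t * y * S.t) = 1 := e
      rw [← mul_right_inj S.t, S.tt, ← mul_assoc, eq_inv_of_mul_eq_one_right e, inv2 y2]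
    have k : y ∈ S.K := (S.π1 (S.cn y e)).1 (MulEquiv.ext fun a => by
      obtain ⟨x, rfl⟩ := d5.ge (mem_top a)
      refine S.πfix F (S.cn y e) (d3 x).1 (d3 x).2 (Commute.mul_right (p.2 x x.2).symm (c1 y p.1 x x.2)))
    rcases S.kt y k e with r | r
    · exact S.oO y r y2
    have r : y = S.t := (eq_inv_of_mul_eq_one_left (S.oO _ r (sq_of_comm y2 S.t2 e))).trans ti
    refine absurd (eq_bot_iff.2 (a1.ge.trans ((closure_le _).2 fun a ha => ?_))) fun e => F.z1 (mem_bot.1 (e.le (mem_top _)))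
    obtain ⟨w, l, m⟩ := c3 a ha
    rw [← r, ← p.2 _ (c4 a ha), mul_assoc (γ a), y2, mul_one, b3 a ha, mul_one, inv_mem_iff] at m
    exact l.eq_one F (S.OK m)
  obtain ⟨Q, rfl, e⟩ := exists_qs F ρ' (MonoidHom.range_eq_top.1 d5) d7 d8 (c5 _ fun a ha => by
    obtain ⟨y, p, q⟩ : a ∈ (_root_.commutator B).map ρ' := by rw [map_commutator_eq, d5, ← _root_.commutator_def, F.perf]; trivial
    have z := d7 (y⁻¹ * ⟨_, c4 a ha⟩) (by rw [map_mul, d4 a ha, map_inv, q, inv_mul_cancel])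
    obtain ⟨m, f⟩ := d8.pow ⟨(y⁻¹ * ⟨_, c4 a ha⟩).2, z⟩
    rw [← pow_odd (b3 a ha) m, ← mul_inv_cancel_left y.1 (γ a), Commute.mul_pow (b := y.1⁻¹ * γ a) (z y y.2), show (y.1⁻¹ * γ a) ^ _ = 1 from f, mul_one]
    exact pow_mem (B.map_subtype_commutator.le ⟨y, p, rfl⟩) _)
  refine ⟨⟨S, Q, c1, c2, fun x a p => ?_⟩, rfl⟩
  rw [F.cj_inj (p.2.symm.trans (e ⟨x, p.1⟩))]
  exact d1 ⟨x, p.1⟩

theorem exists_wr (F : Fx D) {L : Subgroup G} [L.Normal] (hL : S.A ≤ L) {g x : G} {j : J}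
    (hg : g ∈ normalizer (S.O : Set G)) (p : S.L x j) (j1 : j ≠ 1) (e : g * S.t * g⁻¹ = x * S.t) : ∃ W : Wr J G, W.Q.A ≤ L := by
  obtain ⟨T, e1, e2⟩ := S.exists_cs F
  have ht := S.cO S.Ot
  have ti := inv2 S.t2
  obtain ⟨s, β, a1, a2, a3⟩ := T.liftH F (g := S.q ⟨g, hg⟩) j1 (by
    rw [e1, e2 x j p, ← map_inv, ← map_mul, ← map_mul, ← map_mul]; exact congrArg S.q (Subtype.ext e))
    (N := ((L ⊓ centralizer (S.O : Set G)).subgroupOf _).map S.q)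
    (Normal.map ⟨fun x p y => mem_subgroupOf.2 (mem_inf.2 ⟨Normal.conj_mem ‹_› _ p.1 _, cen_cj y.2 p.2⟩)⟩ _ (QuotientGroup.mk'_surjective _))
    fun a => let ⟨w, l⟩ := S.ex' a; ⟨⟨_, S.AO l.1⟩, ⟨hL l.1, fun o p => (S.OK p w l.1).symm⟩, (e2 w a l).symm⟩
  have a4 : ∀ a ∈ s, ∃ y, (y.1 ∈ L ∧ y.1 ∈ centralizer (S.O : Set G)) ∧ S.q y = β a ∧ y.1 * y.1 = 1 := fun a ha => by
    obtain ⟨⟨y, p, e⟩, q, -⟩ := a2 a ha
    obtain ⟨n, f⟩ := S.oO.pow ((S.q1 (x := y * y)).1 (by rw [map_mul, e, q]))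
    refine ⟨y ^ (2 * n + 1), pow_mem p _, by rw [map_pow, e, pow_odd q], ?_⟩
    rw [coe_pow, ← (Commute.refl y.1).mul_pow]; exact f
  choose! γ b1 b2 b3 using a4
  rw [e1] at a2 a3
  have b4 : ∀ a ∈ s, ∀ b ∈ s, (γ a).1 * (S.t * γ b * S.t) = S.t * γ b * S.t * γ a := fun a ha b hb => by
    have k : ((γ a).1 * (S.t * γ b * S.t))⁻¹ * (S.t * γ b * S.t * γ a) ∈ S.O :=
      (S.q2 (x := γ a * (⟨_, ht⟩ * γ b * ⟨_, ht⟩)) (y := ⟨_, ht⟩ * γ b * ⟨_, ht⟩ * γ a)).1 (by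
        simpa only [map_mul, b2 a ha, b2 b hb] using a3 a ha b hb)
    refine inv_mul_eq_one.1 (S.oO _ k ?_)
    nth_rw 1 [eq_mul_inv_iff_mul_eq.2 ((b1 a ha).2 _ k)]
    simp [ti, mul_assoc, S.tt, inv2 (b3 a ha), inv2 (b3 b hb), sq2 (b3 a ha), sq2 (b3 b hb), b3 a ha]
  obtain ⟨W, f⟩ := S.wr_of F a1 (γ := fun a => γ a) (fun a ha => (b1 a ha).2) b3 b4 fun a ha =>
    let ⟨w, l⟩ := S.ex' a; ⟨w, l, (S.q2 (x := ⟨_, S.AO l.1⟩) (y := γ a * (⟨_, ht⟩ * γ a * ⟨_, ht⟩))).1 (by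
      simp only [map_mul, b2 a ha, ← e2 w a l]; exact (a2 a ha).2.2.symm)⟩
  exact ⟨W, f ▸ (closure_le _).2 (by rintro _ ⟨a, ha, rfl⟩; exact (b1 a ha).1)⟩

end Co

namespace St

variable (S T : St J G) {g u : G}

/-- the structure of the centraliser of an involution -/
def co (h0 : OD (S.K ⊓ T.K)) (hu : u ∈ T.K) (u2 : u * u = 1) (u1 : u ≠ 1) (h : ∀ d ∈ T.K, d * u = u * d → d ∈ S.K ∨ d * u ∈ S.K) :
    Co J G where
  toQs := T.toQs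
  t := u
  O := S.K ⊓ T.K ⊓ centralizer {u}
  t2 := u2
  t1 := u1
  tK := hu
  cn g := T.cn u g u2 u1 hu
  oO _ p := h0 _ p.1
  OK _ p := p.1.2
  Ot _ p := mc1.1 p.2
  kt k p q := (h k p q).imp (fun r => ⟨⟨r, p⟩, mc1.2 q⟩) fun r => ⟨⟨r, mul_mem p hu⟩, mc1.2 (Commute.mul_left q (.refl u))⟩

variable [Finite G] (F : Fx D)
include F

theorem inner (n : g ∉ S.N) (hu : u ∈ (S.cj g).K) (u2 : u * u = 1) (u1 : u ≠ 1) (uN : u ∈ S.N) :
    ∃ g u, g ∉ S.N ∧ u ∈ (S.cj g).K ∧ u * u = 1 ∧ u ≠ 1 ∧ u ∈ S.N ∧ Inn (S.π u) := by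
  by_cases i : Inn (S.π u)
  · exact ⟨g, u, n, hu, u2, u1, uN, i⟩
  obtain ⟨⟨x, c, d, a, c1, d1, e, x2, x1, a1⟩, -⟩ := F.ou _ (S.π2 uN u2) i
  obtain ⟨c', p, c2⟩ := S.lfix uN u2 c1
  obtain ⟨d', q, d2⟩ := S.lfix uN u2 d1
  obtain ⟨a', r⟩ := S.ex' a
  obtain ⟨m, l, y2⟩ := (a1 ▸ r.mul (r.cj uN).inv).invol x2
  have k : u * (a' * (u * a' * u⁻¹)⁻¹) * u⁻¹ = (a' * (u * a' * u⁻¹)⁻¹)⁻¹ := by simp [mul_assoc, inv2 u2, u2]
  have o : (a' * (u * a' * u⁻¹)⁻¹) ^ m * a' * u * ((a' * (u * a' * u⁻¹)⁻¹) ^ m * a')⁻¹ = (a' * (u * a' * u⁻¹)⁻¹) ^ (2 * m + 1) * u := by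
    have : a' * u * a'⁻¹ = a' * (u * a' * u⁻¹)⁻¹ * u := by group
    generalize a' * (u * a' * u⁻¹)⁻¹ = w at *
    rw [mul_inv_rev, ← mul_assoc, mul_assoc _ a', mul_assoc _ _ a'⁻¹, this, ← inv_pow, ← k, conj_pow, two_mul, pow_succ', pow_add]
    simp [mul_assoc, inv2 u2, sq2 u2, ← pow_succ', ← pow_succ, ← mul_assoc w, ← mul_assoc (w ^ m)]
  generalize (a' * (u * a' * u⁻¹)⁻¹) ^ (2 * m + 1) = y, (a' * (u * a' * u⁻¹)⁻¹) ^ m * a' = b at *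
  have yu := l.fix y2 uN (by simp [e, c1, d1])
  have yN := (S.cj g).cn u y u2 u1 hu yu.symm
  by_cases z : b ∈ (S.cj g).N
  · exact ⟨g, y, n, (mul_mem_cancel_right hu).1 (o ▸ (S.cj g).cK z hu), y2, fun z => x1 (l.eq_one F (z ▸ one_mem _)), l.N, _, l.2⟩
  refine ⟨g⁻¹ * b * g, g⁻¹ * (y * u) * g, fun h => z (S.cj_N.2 h), S.cj_K.2 (by simpa [← o, mul_assoc] using S.cj_K.1 hu),
    by simpa [← o] using cj2 (cj2 u2 b) g⁻¹, by simpa [← o] using cj1 (cj1 u1 b) g⁻¹, S.cj_N.1 (mul_mem yN ((S.cj g).KN hu)), ?_⟩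
  change Inn ((S.cj g).π (y * u))
  rw [(S.cj g).πm yN ((S.cj g).KN hu), (S.cj g).πK hu, mul_one]
  exact Qs.inn_of _ F p q (e ▸ l) y2 ((S.cj g).cn u _ u2 u1 hu c2) ((S.cj g).cn u _ u2 u1 hu d2)

theorem nA (h0 : OD (S.K ⊓ T.K)) (h1 : ¬S.A ≤ T.K) (hu : u ∈ T.K) (u2 : u * u = 1) (u1 : u ≠ 1) (m : g * u * g⁻¹ ∈ S.K) : u ∉ S.A := fun uA => by
  obtain ⟨j, p⟩ := S.ex uA
  have j2 : j * j = 1 := (p.mul p).uniq F (u2 ▸ S.L_one)
  have j1 : j ≠ 1 := fun z => u1 (S.z1 u uA (z ▸ p).one)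
  have I := F.iv j j2 j1
  have : Finite J := .of_surjective _ (S.ρ_sur F)
  have KN : ∀ k ∈ S.K, k ∈ T.N := fun k q => T.cn u k u2 u1 hu (p.K q).symm
  have h0' : OD (T.K ⊓ S.K) := inf_comm S.K _ ▸ h0
  have h1' : ¬T.A ≤ S.K := fun z => h1 (le_centralizer_iff.1 z)
  by_cases i : ∃ s ∈ S.K, s * s = 1 ∧ s ≠ 1 ∧ Inn (T.π s)
  swap
  · have i' : ¬Inn (T.π (g * u * g⁻¹)) := fun z => i ⟨_, m, cj2 u2 g, cj1 u1 g, z⟩
    refine Co.nd ⟨S.toQs, g * u * g⁻¹, fsub {k | k ∈ S.K ∧ k * (g * u * g⁻¹) = g * u * g⁻¹ * k ∧ Inn (T.π k)}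
      ⟨one_mem _, by simp, T.π_one ▸ inn_one⟩ fun a a1 b b1 => ⟨mul_mem a1.1 b1.1, Commute.mul_left a1.2.1 b1.2.1,
        T.πm (KN a a1.1) (KN b b1.1) ▸ a1.2.2.mul b1.2.2⟩, cj2 u2 g, cj1 u1 g, m, fun k => S.cn _ k (cj2 u2 g) (cj1 u1 g) m,
      fun k q r => by_contra fun z => i ⟨k, q.1, r, z, q.2.2⟩, fun _ q => q.1, fun _ q => q.2.1, fun k q r => ?_⟩ F S.toQs p u2 I.der rfl
    exact (F.out2 (T.π k) (T.π (g * u * g⁻¹))).imp (fun z => ⟨q, r, z⟩) fun z => ⟨mul_mem q m, Commute.mul_left r (.refl _),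
      T.πm (KN k q) (KN _ m) ▸ z.resolve_left i'⟩
  obtain ⟨s, hs, s2, s1, si⟩ := i
  suffices h : ∀ d ∈ S.K, d * s = s * d → d ∈ T.K ∨ d * s ∈ T.K by
    obtain ⟨y, -, l⟩ := S.cjK T h0 hs s2 h m (cj2 u2 g) (cj1 u1 g)
    exact (T.co S h0' hs s2 s1 h).nd F S.toQs (g := y⁻¹ * g) p u2 I.der ((cj_eq l).trans (by group))
  by_cases sA : s ∈ T.A
  swap
  · exact fun d => T.pair S F h0' h1' hs s2 s1 (KN s hs) si sA hu u2 u1 (p.K hs) ⟨j, p.2⟩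
  obtain ⟨j', p'⟩ := T.ex sA
  have j2' : j' * j' = 1 := (p'.mul p').uniq F (s2 ▸ T.L_one)
  have j1' : j' ≠ 1 := fun z => s1 (T.z1 s sA (z ▸ p').one)
  have od : ∀ {w c n}, S.L w c → c * j = j * c → c ^ (2 * n + 1) = 1 → ∃ a a', T.L a a' ∧ T.π w = conj a' ∧ a⁻¹ * w ∈ S.K ⊓ T.K :=
    fun {w c n} l q r => by
      have wu := l.comm p u2 q
      have wN := T.cn u w u2 u1 hu wu
      have wn : w ^ (2 * n + 1) = 1 := S.z1 _ (pow_mem l.1 _) (r ▸ l.pow _).one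
      obtain ⟨a', e⟩ := F.inn_odd (m := n) (by rw [← T.πp wN, wn, T.π_one]; exact inn_one)
      obtain ⟨a, o⟩ := T.ex' a'
      have k := o.dec wN e
      have kN := S.cn s _ s2 s1 hs (p'.K k).symm
      refine ⟨a, a', o, e, (S.π1 kN).1 ?_, k⟩
      obtain ⟨y, y1, y4, -⟩ := S.rr T F h1 hu u2 u1 p.N p u2 j2 j1 p.2 (u2 ▸ one_mem _) k kN (Commute.mul_left (Commute.inv_left (o.K hu)) wu)
      have : (a⁻¹ * w) ^ (2 * n + 1) = 1 := by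
        rw [← mul_inv_cancel_left a w, Commute.mul_pow (o.K k)] at wn
        exact T.z1 _ (eq_inv_of_mul_eq_one_right wn ▸ inv_mem (pow_mem o.1 _)) (pow_mem k _)
      exact mem_bot.1 (mem_of_odd (k := 2) (m := n) (by rw [y1, ← map_pow]; exact y4 ▸ map_one _)
        (by rw [← S.πp kN, this, S.π_one]; exact one_mem ⊥))
  rcases I.c0 with z | ⟨z, a, b, a1, b1, a5, a2, ab⟩
  · obtain ⟨w, q, l⟩ := C0_ind (X := S.im (T.A ⊔ (S.K ⊓ T.K))) (fun c n q r => by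
      obtain ⟨w, l⟩ := S.ex' c
      obtain ⟨a, _, o, -, k⟩ := od l q r
      exact ⟨w, mul_inv_cancel_left a w ▸ mul_mem_sup o.1 k, l⟩) z
    obtain rfl : w = u := inv_mul_eq_one.1 (S.z1 _ (l.z p).1 (l.z p).2)
    obtain ⟨a, a1, k, k1, e⟩ := exists_mul_of_mem_sup (fun k r => T.KN (mem_inf.1 r).2) q
    obtain rfl := T.z1 a a1 ((mul_mem_cancel_right (mem_inf.1 k1).2).1 (e ▸ hu))
    exact absurd (h0 w (e ▸ (one_mul k).symm ▸ k1) u2) u1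
  intro d hd c
  obtain ⟨y, y1, -, r⟩ := T.rr S F h1' hs s2 s1 p'.N p' s2 j2' j1' p'.2 (s2 ▸ one_mem _) hd (KN d hd) c
  refine r.imp_right (·.resolve_right fun r => a2 ?_)
  obtain ⟨w, l⟩ := S.ex' a
  obtain ⟨v, o⟩ := S.ex' b
  obtain ⟨x, a', x1, e, k⟩ := od (n := 2) l a1 a5
  have wN := T.cn u w u2 u1 hu (l.comm p u2 a1)
  have vN := T.cn u v u2 u1 hu (o.comm p u2 b1)
  have q := (l.mul l).z (ab ▸ (o.mul l).mul o.inv)
  obtain rfl := r.2 z (T.π v) a' (T.πfix F vN p'.N p'.2 (o.K hs)) (T.πfix F vN (KN d hd) y1 (o.K hd))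
    (cjf.1 (by simpa [e] using T.πfix F wN p'.N p'.2 (l.K hs))) (F.cj_inj (by
      rw [map_pow, ← e, ← T.πp wN, S.z1 _ (pow_mem l.1 _) (a5 ▸ l.pow 5).one, T.π_one, map_one])) (F.cj_inj (by
      rw [← cj_cj, map_mul, ← e, ← T.πc vN wN, ← T.πm wN wN, inv_mul_eq_one.1 (S.z1 _ q.1 q.2)]))
  rw [T.z1 x x1.1 x1.one, inv_one, one_mul] at k
  exact l.eq_one F k.1

theorem exists_wr {L : Subgroup G} [L.Normal] (hL : S.A ≤ L) (h0 : ∀ g ∉ S.N, OD (S.K ⊓ (S.cj g).K))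
    (h1 : ∀ g ∉ S.N, ¬S.A ≤ (S.cj g).K) (n : g ∉ S.N) (hu : u ∈ (S.cj g).K) (u2 : u * u = 1) (u1 : u ≠ 1) (uN : u ∈ S.N) :
    ∃ W : Wr J G, W.Q.A ≤ L := by
  obtain ⟨g, u, n, hu, u2, u1, uN, ui⟩ := S.inner F n hu u2 u1 uN
  replace h0 := h0 g n
  replace h1 := h1 g n
  have m := S.cj_K.1 hu
  have m2 : g⁻¹ * u * g * (g⁻¹ * u * g) = 1 := by simpa using cj2 u2 g⁻¹
  have m1 : g⁻¹ * u * g ≠ 1 := by simpa using cj1 u1 g⁻¹
  have hT : ∀ x ∈ S.K, ∀ k ∈ S.K, g * x * k * (g * x)⁻¹ ∈ (S.cj g).K := fun x p k q =>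
    S.cj_K.2 (by simpa [mul_assoc] using mul_mem (mul_mem p q) (inv_mem p))
  generalize S.cj g = T at *
  obtain ⟨x, j, p, x2, j2, e, ht, c⟩ := S.dec2 F uN u2 ui
  have j1 : j ≠ 1 := fun z => u1 (h0 u ⟨(S.π1 uN).1 (by rw [e, z, map_one]), hu⟩ u2)
  obtain ⟨a, b, a1, b1, f⟩ := (F.iv j j2 j1).der
  obtain ⟨a', a2⟩ := S.ex' a
  obtain ⟨b', b2⟩ := S.ex' b
  have hj : ∀ {y c}, S.L y c → c * j = j * c → y * u = u * y := fun q r => by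
    rw [← sq2 x2 u]; exact Commute.mul_right (q.comm p x2 r) (q.K ht)
  have uA := S.nA T F (g := g⁻¹) h0 h1 hu u2 u1 (by rwa [inv_inv])
  have t1 : x * u ≠ 1 := fun z => uA (eq_inv_of_mul_eq_one_right z ▸ inv_mem p.1)
  have t2 := sq_of_comm x2 u2 c
  have tu : x * u * u = u * (x * u) := Commute.mul_left c (.refl u)
  have xN := T.cn u x u2 u1 hu c
  have ti : Inn (T.π (x * u)) := by
    rw [T.πm xN (T.KN hu), T.πK hu, mul_one]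
    exact Qs.inn_of _ F a2 b2 (f ▸ p) x2 (T.cn u _ u2 u1 hu (hj a2 a1)) (T.cn u _ u2 u1 hu (hj b2 b1))
  have h0' : OD (T.K ⊓ S.K) := inf_comm S.K _ ▸ h0
  have p1 := fun d => S.pair T F (d := d) h0 h1 hu u2 u1 uN ui uA ht t2 t1 tu ti
  have p2 := fun d => T.pair S F (d := d) h0' (fun z => h1 (le_centralizer_iff.1 z)) ht t2 t1 (mul_mem xN (T.KN hu)) ti
    (T.nA S F (g := g * 1) h0' (fun z => h1 (le_centralizer_iff.1 z)) ht t2 t1 (hT 1 (one_mem _) _ ht)) hu u2 u1 tu.symm ui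
  have e' : u = x * (x * u) := (sq2 x2 u).symm
  generalize x * u = t at *
  obtain ⟨y, hy, l⟩ := S.cjK T h0 ht t2 p2 m m2 m1
  replace l : g * y * t * (g * y)⁻¹ = u := by simpa [mul_assoc] using congrArg (fun y => g * y * g⁻¹) l
  refine (T.co S h0' ht t2 t1 p2).exists_wr F hL (g := g * y) (mem_normalizer_fintype fun o q => ?_) p j1 (l.trans e')
  obtain ⟨k, r⟩ := h0'.pow q.1
  have := (S.co T h0 hu u2 u1 p1).odd_mem (hT y hy o q.1.2) (l ▸ cjc (mc1.1 q.2) _ : _ * u = u * _) (m := k)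
    (by rw [conj_pow, r, mul_one, mul_inv_cancel])
  refine ⟨⟨this.1.2, this.1.1⟩, mc1.2 ?_⟩
  rw [← sq2 x2 t, ← e']
  exact Commute.mul_right (p.K this.1.1).symm (mc1.1 this.2)

end St

end Cfsg.Lib.SH
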